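import Cfsg.Agent.H0.TC
set_option maxRecDepth 100000
namespace H0.TCL372
open H0
noncomputable def r0 : TC.WTr := (.node (.node (.node (.node (.node (.node (.leaf [0] 0 0 false) (.leaf [0, 2, 3, 1, 0] 16 4 false)) (.node (.leaf [0, 2, 5, 0, 1] 12 2 false) (.leaf [0, 5, 2, 5, 3, 2] 17 1 false))) (.node (.node (.leaf [5, 1, 3, 4, 1, 4] 17 4 true) (.leaf [5] 4 0 false)) (.node (.leaf [0, 2, 0, 2, 3, 0] 11 1 false) (.leaf [5, 5, 5, 5, 5] 6 0 true)))) (.node (.node (.node (.leaf [1, 1, 0, 2, 5] 12 0 false) (.leaf [2, 5, 2, 0, 5, 1] 18 1 false)) (.node (.leaf [1] 1 1 false) (.leaf [0, 1, 1, 0, 2] 12 5 false))) (.node (.node (.leaf [3, 4, 1, 4, 0, 5] 17 6 true) (.leaf [1, 3, 2, 4, 0, 1] 18 3 true)) (.leaf [3, 1, 0, 3, 0] 16 0 false)))) (.node (.node (.node (.node (.leaf [4, 1, 0, 2, 2] 12 5 true) (.leaf [4, 3, 5] 8 0 false)) (.node (.leaf [3, 2, 5, 2, 0, 5] 18 0 false) (.leaf [4] 4 1 false)))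 (.node (.node (.leaf [2] 1 0 false) (.leaf [3, 5, 3] 8 1 false)) (.node (.leaf [4, 0, 5, 2, 5, 3] 17 0 false) (.leaf [4] 4 1 false)))) (.node (.node (.node (.leaf [2, 2, 0, 4, 1] 12 2 true) (.leaf [3] 3 0 false)) (.node (.leaf [0, 5, 1, 3, 2, 5] 18 4 false) (.leaf [2, 5, 3, 2, 4, 0] 17 3 false))) (.node (.node (.leaf [4, 1, 3, 2, 4, 0] 18 2 true) (.leaf [0, 1, 4, 1, 3, 2] 18 0 true)) (.leaf [3] 3 0 false))))) (.node (.node (.node (.node (.node (.leaf [5, 2, 5, 3, 2, 4] 17 2 false) (.leaf [0, 2, 0, 2, 0, 2] 11 6 false)) (.node (.leaf [0, 2, 2, 0, 4] 12 1 true) (.leaf [5] 4 0 false))) (.node (.node (.leaf [0] 0 0 false) (.leaf [1, 0, 2, 2, 0] 12 0 true)) (.node (.leaf [2, 2, 2, 2, 2] 10 0 true) (.leaf [2, 0, 3, 4, 0, 3, 1] 19 5 true)))) (.node (.node (.node (.leaf [3, 4, 0, 3, 1, 5, 2] 19 7 true) (.leaf [4, 1, 4, 0, 5, 1] 17 0 true)) (.node (.leaf [2, 0, 4, 1, 0] 12 3 true) (.leaf [3, 4,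 3] 8 3 false))) (.node (.node (.leaf [4, 0, 5, 1, 3, 4] 17 2 true) (.leaf [4, 4, 4, 4, 4] 6 0 false)) (.leaf [0, 4, 1, 0, 2] 12 4 true)))) (.node (.node (.node (.node (.leaf [5, 3, 0, 1, 4, 2, 3] 19 5 false) (.leaf [5, 3, 4] 8 2 false)) (.node (.leaf [2] 1 0 false) (.leaf [1, 3, 4, 1, 4, 0] 17 5 true))) (.node (.node (.leaf [3, 2, 4, 0, 1, 4] 18 4 true) (.leaf [0, 5, 1, 3, 4, 1] 17 3 true)) (.node (.leaf [5, 3, 2, 4, 0, 5] 17 4 false) (.leaf [4] 4 1 false)))) (.node (.node (.node (.leaf [2, 5, 0, 1, 1] 12 3 false) (.leaf [3] 3 0 false)) (.node (.leaf [3, 0, 5, 3, 0, 1, 4] 19 3 false) (.leaf [2, 0, 5, 1, 3, 2] 18 3 false))) (.node (.node (.leaf [1, 1, 1, 1, 1] 10 0 false) (.leaf [3, 4, 3, 4, 3, 4, 3, 4, 3, 4, 3] 7 1 false)) (.leaf [1, 0, 3, 0, 2] 16 1 false))))))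
noncomputable def tS : Tr := (.leaf (nat_lit 0x1ffc5ab9524afe60036dffee6951a9a6642bde37ff52eb291e0ac4d70cbff944224e6a000ab8c9ffc53a962150d5e83a2ffe42dcd26a7e8299e3fff0e6779213c43b29c7ff8723c03559436653fffde73d27a01c1b4369ffe84c37a76734be9647ff5bae48cd86f63c987ffa140da345cdc3554fffcb739033c1b5163ffffef4dac9490d834e01fff0d63d07338e6e0b5fffb1f0d49e8e6b9c4afffdb39cf4028521806affea118fab85561a499fff78e6115406945633bff95345cb754d2690d3ffd868681983cde2a36ffe1a18d0cb66e655037ff324b71461ca0d0c1bffada45e8a46a0f20d1ffdca8671b83c5b50d3ffe4e4d623b21619c6b7ff414544ee8cd27a19fff86632c548650cf547ffd018f00cc66d05998ffe9a4b71df1de734337ff2c40d0b1901382433ff83417a4793820413fffcb18bc068820871cdffebf9b12c82300d086fff2d83e532b671760d3ff8ba066468ea0b92edffc199982706409c0d5ffe2e0cd0332142dd1e7ff6b874d7f03316c44fff95c16a2704b90b067ffc5a032222668b18b3ffe0c9669101642c4587ff15e2b8190ad2142b3ff8ab25e26055032153ffc9a0a814e0c8668a6ffe1d0398720e2000387ff0de1b8368000d81afff86a0d21a033866001ffc000000000d019832))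
noncomputable def tJ : Tr := (.leaf (nat_lit 0x2820528c61080480a5e2100e33aca708048081e0281c728100080460956228205280e8281c528c611000002ca72000f00044100003bcc72000e20000100e4338a0100030b4a02816028c00200cf00860000211000f0804018202100000400600001000902000e20000281c228065080a00a5c0000002200e2000c200040804001582000000100c281a000c201808069803000000000d2006c00800281800000118060624000806000180000210000c2000d00000281a01800018000680071000003400000001040d2000b01c402816000000180005800008001081601000002c0008000001601000002c00000000000b0014a50000))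
noncomputable def tQ : Tr := (.leaf (nat_lit 0x0))
noncomputable def tR : TC.WTr := r0
def hl : List ℕ := [3, 4, 5, 5, 4]
def B : List (List ℕ) := [[0, 0], [1, 2], [2, 1], [3, 3], [4, 5], [5, 4], [4, 4, 4, 4, 4, 4], [3, 4, 3, 4, 3, 4, 3, 4, 3, 4, 3, 4], [3, 4, 3, 5], [3, 5, 3, 5, 3, 5, 3, 5, 3, 5, 3, 5], [1, 1, 1, 1, 1, 1], [0, 2, 0, 2, 0, 2, 3], [0, 1, 1, 0, 2, 5], [0, 1, 0, 1, 0, 1, 0, 1, 0, 1, 0, 1], [0, 1, 0, 2, 0, 1, 0, 2, 0, 1, 0, 2, 0, 1, 0, 2, 0, 1, 0, 2, 0, 1, 0, 2, 0, 1, 0, 2], [0, 2, 0, 2, 0, 2, 0, 2, 0, 2, 0, 2], [2, 3, 1, 0, 3, 0], [2, 4, 0, 5, 2, 5, 3], [1, 3, 2, 5, 2, 0, 5], [0, 1, 4, 2, 3, 0, 5, 3]]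
def subs : List (List ℕ) := [[3], [4], [5]]
def ex : List (List ℕ) := []
def inv (x : ℕ) : ℕ := [0, 2, 1, 3, 5, 4].getD x 0
noncomputable def rS : ℕ → ℕ := rowOf tS (nat_lit 8) (nat_lit 255) (nat_lit 77) (nat_lit 151115727451828646838271)
noncomputable def rJ : ℕ → ℕ := rowOf tJ (nat_lit 8) (nat_lit 255) (nat_lit 40) (nat_lit 1099511627775)
noncomputable def C : TC.Cfg where
  S := look rS (nat_lit 11) (nat_lit 2047)
  J := look rJ (nat_lit 5) (nat_lit 31)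
  Q := lookQ tQ (nat_lit 8) (nat_lit 1) (nat_lit 1)
  R := tR.get
  hl := fun x => hl.contains x
  n := (nat_lit 49)
  M := (nat_lit 49)
  top := (nat_lit 1127)
  nl := (nat_lit 6)
  need := (nat_lit 6)
  nr := (nat_lit 10)
theorem k0 : TC.chkRange C 0 1 = true := by decide +kernel
theorem rows0 : ∀ c < (0 + 1) * 64, c < C.M → TC.chkRow C c = true :=
  TC.rows_step (TC.rows_zero C) k0
theorem main {G : Type*} [Group G] (g : ℕ → G) (hB : ∀ r ∈ B, ev g r = 1) (H : Subgroup G)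
    (hH : ∀ w ∈ subs, ev g w ∈ H) :
    H.relIndex (Subgroup.closure (g '' {x | x < 6})) ≠ 0 ∧
      H.relIndex (Subgroup.closure (g '' {x | x < 6})) ≤ 49 :=
  TC.index_le C B subs ex inv hl tR.hint rfl (by decide +kernel) (by decide +kernel)
    (TC.rows_done rows0 (by decide +kernel)) g hB H hH
end H0.TCL372
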